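import Mathlib
import Groth.Prelude.Def_PCone
import Groth.Agent.ProjQuotLib.Chart

/-!
# The partial morphism `G(φ) ⟶ Proj A` of a graded map, on standard charts
-/

set_option autoImplicit false
set_option backward.isDefEq.respectTransparency false
set_option backward.isDefEq.respectTransparency.types false
universe u

open CategoryTheory AlgebraicGeometry HomogeneousLocalization TopologicalSpace

noncomputable section

namespace ConeTwistLib

variable {R A B : Type u} [CommRing R] [CommRing A] [Algebra R A] {𝒜 : ℕ → Submodule R A} [GradedAlgebra 𝒜]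
  [CommRing B] [Algebra R B] {ℬ : ℕ → Submodule R B} [GradedAlgebra ℬ] (φ : 𝒜 →+*ᵍ ℬ)

theorem chart_isOpenImmersion {d : ℕ} {f : A} (hf : f ∈ 𝒜 d) (hd : 0 < d) :
    IsOpenImmersion (PCone.chart φ hf hd) := by
  have h : PCone.chart φ hf hd ≫ (PCone.dom φ).ι = Proj.awayι ℬ (φ f) (φ.2 hf) hd :=
    IsOpenImmersion.lift_fac _ _ _
  have : IsOpenImmersion (PCone.chart φ hf hd ≫ (PCone.dom φ).ι) := by rw [h]; infer_instance
  exact IsOpenImmersion.of_comp (PCone.chart φ hf hd) (PCone.dom φ).ι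

theorem chart_range {d : ℕ} {f : A} (hf : f ∈ 𝒜 d) (hd : 0 < d) :
    haveI := chart_isOpenImmersion φ hf hd
    (PCone.chart φ hf hd).opensRange = (PCone.dom φ).ι ⁻¹ᵁ Proj.basicOpen ℬ (φ f) := by
  haveI := chart_isOpenImmersion φ hf hd
  have h : PCone.chart φ hf hd ≫ (PCone.dom φ).ι = Proj.awayι ℬ (φ f) (φ.2 hf) hd :=
    IsOpenImmersion.lift_fac _ _ _
  rw [← Scheme.Hom.image_top_eq_opensRange, ← Proj.opensRange_awayι ℬ (φ f) (φ.2 hf) hd,
    ← Scheme.Hom.image_top_eq_opensRange (Proj.awayι ℬ (φ f) (φ.2 hf) hd)]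
  simp only [← h, Scheme.Hom.comp_image]
  exact ((PCone.dom φ).ι.preimage_image_eq _).symm

theorem cover_dom (x : (PCone.dom φ : Scheme.{u})) :
    ∃ (d : ℕ) (f : A) (hd : 0 < d) (hf : f ∈ 𝒜 d),
      x ∈ (PCone.dom φ).ι ⁻¹ᵁ Proj.basicOpen ℬ (φ f) := by
  have hx : ((PCone.dom φ).ι x) ∈ PCone.dom φ := by
    have h := Set.mem_range_self (f := (PCone.dom φ).ι.base) x
    rwa [Scheme.Opens.range_ι] at h
  obtain ⟨⟨f, d, hd, hf⟩, hf'⟩ := TopologicalSpace.Opens.mem_iSup.mp hx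
  exact ⟨d, f, hd, hf, hf'⟩

variable (p : (PCone.dom φ : Scheme.{u}) ⟶ Proj 𝒜)
  (hp : ∀ (d : ℕ) (f : A) (hd : 0 < d) (hf : f ∈ 𝒜 d),
    PCone.chart φ hf hd ≫ p =
      Spec.map (CommRingCat.ofHom (HomogeneousLocalization.Away.map φ f)) ≫ Proj.awayι 𝒜 f hf hd)

include hp in
theorem preimage_basicOpen {a : A} {e : ℕ} (ha : a ∈ 𝒜 e) (he : 0 < e) :
    p ⁻¹ᵁ Proj.basicOpen 𝒜 a = (PCone.dom φ).ι ⁻¹ᵁ Proj.basicOpen ℬ (φ a) := by
  ext y
  obtain ⟨d, g, hd, hg, hyg⟩ := cover_dom φ y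
  haveI := chart_isOpenImmersion φ hg hd
  rw [← chart_range φ hg hd] at hyg
  obtain ⟨z, rfl⟩ := hyg
  change z ∈ (PCone.chart φ hg hd ≫ p) ⁻¹ᵁ Proj.basicOpen 𝒜 a ↔
    z ∈ (PCone.chart φ hg hd ≫ (PCone.dom φ).ι) ⁻¹ᵁ Proj.basicOpen ℬ (φ a)
  have hg' : φ g ∈ ℬ d := φ.2 hg
  have ha' : φ a ∈ ℬ e := φ.2 ha
  rw [hp d g hd hg, Scheme.Hom.comp_preimage, Proj.awayι_preimage_basicOpen (𝒜 := 𝒜) hg hd ha he,
    show PCone.chart φ hg hd ≫ (PCone.dom φ).ι = Proj.awayι ℬ (φ g) hg' hd from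
      IsOpenImmersion.lift_fac _ _ _, Proj.awayι_preimage_basicOpen (𝒜 := ℬ) hg' hd ha' he]
  have h2 : HomogeneousLocalization.Away.map φ g (HomogeneousLocalization.Away.isLocalizationElem hg ha) =
      HomogeneousLocalization.Away.isLocalizationElem hg' ha' := by
    apply HomogeneousLocalization.val_injective
    simp [HomogeneousLocalization.Away.isLocalizationElem, HomogeneousLocalization.Away.map_mk, map_pow]
  rw [← h2]
  exact Iff.rfl

include hp in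
/-- `p` on sections over a standard open -/
theorem appLE_awayToSection {a : A} {e : ℕ} (ha : a ∈ 𝒜 e) (he : 0 < e) :
    Proj.awayToSection 𝒜 a ≫ p.appLE (Proj.basicOpen 𝒜 a) ((PCone.dom φ).ι ⁻¹ᵁ Proj.basicOpen ℬ (φ a))
        (preimage_basicOpen φ p hp ha he).ge =
      CommRingCat.ofHom (HomogeneousLocalization.Away.map φ a) ≫ Proj.awayToSection ℬ (φ a) ≫
        (PCone.dom φ).ι.app (Proj.basicOpen ℬ (φ a)) := by
  haveI := chart_isOpenImmersion φ ha he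
  let l := PCone.chart φ ha he
  let W := (PCone.dom φ).ι ⁻¹ᵁ Proj.basicOpen ℬ (φ a)
  have hl : l ≫ (PCone.dom φ).ι = Proj.awayι ℬ (φ a) (φ.2 ha) he := IsOpenImmersion.lift_fac _ _ _
  have hle : ⊤ ≤ l ⁻¹ᵁ W := by
    rw [← Scheme.Hom.comp_preimage, hl]
    exact Groth.Agent.ProjQuot.awayι_le_preimage (φ.2 ha) he
  have hT : (PCone.dom φ).ι.app (Proj.basicOpen ℬ (φ a)) ≫ l.appLE W ⊤ hle =
      (Proj.awayι ℬ (φ a) (φ.2 ha) he).appLE (Proj.basicOpen ℬ (φ a)) ⊤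
        (Groth.Agent.ProjQuot.awayι_le_preimage (φ.2 ha) he) := by
    rw [Scheme.Hom.app_eq_appLE, Scheme.Hom.appLE_comp_appLE]
    simp only [hl]
  have hsub : Proj.basicOpen ℬ (φ a) ≤ (PCone.dom φ).ι.opensRange := by
    rw [Scheme.Opens.opensRange_ι]
    exact le_iSup_of_le (⟨a, e, he, ha⟩ : {f : A // ∃ d : ℕ, 0 < d ∧ f ∈ 𝒜 d}) le_rfl
  haveI : IsIso ((PCone.dom φ).ι.app (Proj.basicOpen ℬ (φ a))) := Scheme.Hom.isIso_app _ _ hsub
  haveI : IsIso (Proj.awayToSection ℬ (φ a)) := by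
    rw [← Proj.basicOpenIsoAway_hom ℬ (φ a) (φ.2 ha) he]
    infer_instance
  have hfac := Groth.Agent.ProjQuot.awayι_appLE_awayToSection (𝒜 := ℬ) (f := φ a) (φ.2 ha) he
  haveI : IsIso (l.appLE W ⊤ hle) := by
    haveI : IsIso (Proj.awayToSection ℬ (φ a) ≫ (Proj.awayι ℬ (φ a) (φ.2 ha) he).appLE
        (Proj.basicOpen ℬ (φ a)) ⊤ (Groth.Agent.ProjQuot.awayι_le_preimage (φ.2 ha) he)) := by
      rw [hfac]; infer_instance
    haveI : IsIso ((PCone.dom φ).ι.app (Proj.basicOpen ℬ (φ a)) ≫ l.appLE W ⊤ hle) := by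
      rw [hT]
      exact IsIso.of_isIso_comp_left (Proj.awayToSection ℬ (φ a)) _
    exact IsIso.of_isIso_comp_left ((PCone.dom φ).ι.app (Proj.basicOpen ℬ (φ a))) _
  rw [← cancel_mono (l.appLE W ⊤ hle)]
  simp only [Category.assoc]
  rw [hT, hfac, Scheme.Hom.appLE_comp_appLE]
  have h' : ⊤ ≤ (Spec.map (CommRingCat.ofHom (HomogeneousLocalization.Away.map φ a)) ≫
      Proj.awayι 𝒜 a ha he) ⁻¹ᵁ Proj.basicOpen 𝒜 a := by
    rw [Scheme.Hom.comp_preimage]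
    exact le_trans (by simp) (Scheme.Hom.preimage_mono _ (Groth.Agent.ProjQuot.awayι_le_preimage ha he))
  rw [show (l ≫ p).appLE (Proj.basicOpen 𝒜 a) ⊤ _ =
      (Spec.map (CommRingCat.ofHom (HomogeneousLocalization.Away.map φ a)) ≫
        Proj.awayι 𝒜 a ha he).appLE (Proj.basicOpen 𝒜 a) ⊤ h' by simp only [l, hp e a he ha],
    ← Scheme.Hom.appLE_comp_appLE _ (Proj.awayι 𝒜 a ha he) (Proj.basicOpen 𝒜 a) ⊤ ⊤
      (Groth.Agent.ProjQuot.awayι_le_preimage ha he) (by simp),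
    ← Category.assoc, Groth.Agent.ProjQuot.awayι_appLE_awayToSection]
  simp [Scheme.Hom.appLE]

end ConeTwistLib
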