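import Groth.Agent.ConeTwistLib.Basic
import Groth.Agent.TwistLib.HomGlue
import Groth.Agent.TwistLib.ProjSymExt
import Groth.Agent.GrTildeLib.Chart

/-!
# `O(n)` pulls back to `O(n)` along the partial morphism of a graded map, `𝒜` generated in degree one
-/

set_option autoImplicit false
set_option backward.isDefEq.respectTransparency false
set_option backward.isDefEq.respectTransparency.types false
universe u

open CategoryTheory CategoryTheory.Limits AlgebraicGeometry TopologicalSpace Opposite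
open HomogeneousLocalization AmpleLib

noncomputable section

namespace ConeTwistLib

variable {R A B : Type u} [CommRing R] [CommRing A] [Algebra R A] {𝒜 : ℕ → Submodule R A} [GradedAlgebra 𝒜]
  [CommRing B] [Algebra R B] {ℬ : ℕ → Submodule R B} [GradedAlgebra ℬ] (φ : 𝒜 →+*ᵍ ℬ)

variable (𝒜) in
/-- the generator `a ^ n` of `O(n)` on `D+(a)` -/
def unit (n : ℤ) {a : A} (ha : a ∈ 𝒜 1) : TwistLib.Unit' 𝒜 (n * ((1 : ℕ) : ℤ)) (Proj.basicOpen 𝒜 a) :=
  TwistLib.Unit'.ofPow ha SetLike.GradedOne.one_mem rfl (fun x => x.2)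
    (fun x h => x.1.isPrime.ne_top ((Ideal.eq_top_iff_one _).mpr h)) n

variable (𝒜) in
/-- a function carrying `a ^ n` to `b ^ n` -/
theorem relation {n : ℤ} {a b c x : A} (ha : a ∈ 𝒜 1) (hb : b ∈ 𝒜 1) (hc : c ∈ 𝒜 1) {k : ℕ}
    (hx : x ∈ 𝒜 (k • 1)) (hle : Proj.basicOpen 𝒜 a ⊓ Proj.basicOpen 𝒜 b ≤ Proj.basicOpen 𝒜 c)
    (heq : x * (unit 𝒜 n ha).num * (unit 𝒜 n hb).den = c ^ k * (unit 𝒜 n ha).den * (unit 𝒜 n hb).num) :
    ((Proj 𝒜).presheaf.map (homOfLE hle).op (Proj.awayToSection 𝒜 c (Away.mk 𝒜 hc k x hx))) •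
        res _ (inf_le_left (b := Proj.basicOpen 𝒜 b)) (unit 𝒜 n ha).sec =
      res _ (inf_le_right (a := Proj.basicOpen 𝒜 a)) (unit 𝒜 n hb).sec := by
  refine TwistLib.sec_ext fun y => ?_
  rw [TwistLib.val_smul, TwistLib.val_res, TwistLib.val_res, TwistLib.Unit'.sec, TwistLib.Unit'.sec,
    TwistLib.val_fracSec, TwistLib.val_fracSec]
  have h := GrTildeLib.val_awayToSection hc hx ⟨y.1, hle y.2⟩
  refine (congrArg (· * _) h).trans ?_
  rw [Localization.mk_mul, Localization.mk_eq_mk_iff, Localization.r_iff_exists]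
  refine ⟨1, ?_⟩
  simp only [Submonoid.coe_mul, OneMemClass.coe_one, one_mul]
  linear_combination heq

/-- the same fraction works for `n`, in both rings -/
theorem exists_fraction (n : ℤ) {a b : A} (ha : a ∈ 𝒜 1) (hb : b ∈ 𝒜 1) :
    ∃ (c x : A) (_ : c ∈ 𝒜 1) (k : ℕ) (_ : x ∈ 𝒜 (k • 1)),
      (c = a ∨ c = b) ∧
      (x * (unit 𝒜 n ha).num * (unit 𝒜 n hb).den = c ^ k * (unit 𝒜 n ha).den * (unit 𝒜 n hb).num) ∧
      (φ x * (unit ℬ n (show φ a ∈ ℬ 1 from φ.2 ha)).num * (unit ℬ n (show φ b ∈ ℬ 1 from φ.2 hb)).den =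
        φ c ^ k * (unit ℬ n (show φ a ∈ ℬ 1 from φ.2 ha)).den * (unit ℬ n (show φ b ∈ ℬ 1 from φ.2 hb)).num) := by
  cases n with
  | ofNat m =>
    refine ⟨a, b ^ m, ha, m, by simpa using SetLike.pow_mem_graded m hb, Or.inl rfl, ?_, ?_⟩
    · simp [unit, TwistLib.Unit'.ofPow]; ring
    · simp [unit, TwistLib.Unit'.ofPow]; ring
  | negSucc m =>
    refine ⟨b, a ^ (m + 1), hb, m + 1, by simpa using SetLike.pow_mem_graded (m + 1) ha, Or.inr rfl, ?_, ?_⟩
    · simp [unit, TwistLib.Unit'.ofPow]; ring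
    · simp [unit, TwistLib.Unit'.ofPow]; ring

theorem map_map_eq {X : Scheme.{u}} {U V V' W : X.Opens} (h : V ≤ U) (h' : W ≤ V) (k : V' ≤ U) (k' : W ≤ V')
    (y : Γ(X, U)) :
    X.presheaf.map (homOfLE h').op (X.presheaf.map (homOfLE h).op y) =
      X.presheaf.map (homOfLE k').op (X.presheaf.map (homOfLE k).op y) := by
  rw [← CommRingCat.comp_apply, ← CommRingCat.comp_apply, ← Functor.map_comp, ← Functor.map_comp]
  rfl

variable (p : (PCone.dom φ : Scheme.{u}) ⟶ Proj 𝒜)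
  (hp : ∀ (d : ℕ) (f : A) (hd : 0 < d) (hf : f ∈ 𝒜 d),
    PCone.chart φ hf hd ≫ p =
      Spec.map (CommRingCat.ofHom (HomogeneousLocalization.Away.map φ f)) ≫ Proj.awayι 𝒜 f hf hd)

include hp in
theorem exists_iso_pullback (hgen : (HomogeneousIdeal.irrelevant 𝒜).toIdeal ≤ Ideal.span (𝒜 1 : Set A))
    (n : ℤ) :
    Nonempty ((Scheme.Modules.pullback p).obj (Twist.twist 𝒜 (n * ((1 : ℕ) : ℤ))) ≅
      (Twist.twist ℬ (n * ((1 : ℕ) : ℤ))).restrict (PCone.dom φ).ι) := by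
  let O := Twist.twist 𝒜 (n * ((1 : ℕ) : ℤ))
  let O' := Twist.twist ℬ (n * ((1 : ℕ) : ℤ))
  let N := O'.restrict (PCone.dom φ).ι
  let D : 𝒜 1 → (PCone.dom φ : Scheme.{u}).Opens := fun a => p ⁻¹ᵁ Proj.basicOpen 𝒜 (a : A)
  have hφ1 : ∀ a : 𝒜 1, φ (a : A) ∈ ℬ 1 := fun a => φ.2 a.2
  have himg : ∀ a : 𝒜 1, (PCone.dom φ).ι ''ᵁ D a ≤ Proj.basicOpen ℬ (φ (a : A)) := fun a => by
    show (PCone.dom φ).ι ''ᵁ (p ⁻¹ᵁ _) ≤ _
    rw [preimage_basicOpen φ p hp a.2 Nat.one_pos, Scheme.Hom.image_preimage_eq_opensRange_inf]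
    exact inf_le_right
  have hcov : ∀ y : (PCone.dom φ : Scheme.{u}), ∃ a, y ∈ D a := fun y => by
    obtain ⟨a, ha⟩ := Opens.mem_iSup.mp
      (show p y ∈ ⨆ a : 𝒜 1, Proj.basicOpen 𝒜 (a : A) from
        (Proj.iSup_basicOpen_eq_top 𝒜 (fun a : 𝒜 1 => (a : A)) (by simpa using hgen)).symm ▸ trivial)
    exact ⟨a, ha⟩
  let e : ∀ a, Γ(KFlatLib.pb p O, D a) := fun a => KFlatLib.puSec p (unit 𝒜 n a.2).sec
  let g : ∀ a, Γ(N, D a) := fun a => AmpleLib.res O' (himg a) (unit ℬ n (hφ1 a)).sec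
  have he : ∀ a, GenOn (KFlatLib.pb p O) (e a) := fun a =>
    TwistLib.genOn_of_genAt fun x hx => TwistLib.GenAt.puSec p ((unit 𝒜 n a.2).genOn.genAt hx)
  have hg : ∀ a, GenOn N (g a) := fun a => (unit ℬ n (hφ1 a)).genOn.restrict (PCone.dom φ).ι _ (himg a)
  obtain ⟨β, hβ⟩ := TwistLib.exists_hom_of_gens (M := KFlatLib.pb p O) (N := N) D e g hcov he
    (fun a b V ha hb r hr => by
      obtain ⟨c, x, hc, k, hx, hcor, hA, hB⟩ := exists_fraction φ n a.2 b.2
      have hle : Proj.basicOpen 𝒜 (a : A) ⊓ Proj.basicOpen 𝒜 (b : A) ≤ Proj.basicOpen 𝒜 c := by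
        rcases hcor with rfl | rfl
        · exact inf_le_left
        · exact inf_le_right
      have hφc : φ c ∈ ℬ 1 := φ.2 hc
      have hle' : Proj.basicOpen ℬ (φ (a : A)) ⊓ Proj.basicOpen ℬ (φ (b : A)) ≤ Proj.basicOpen ℬ (φ c) := by
        rcases hcor with rfl | rfl
        · exact inf_le_left
        · exact inf_le_right
      have hV : V ≤ p ⁻¹ᵁ (Proj.basicOpen 𝒜 (a : A) ⊓ Proj.basicOpen 𝒜 (b : A)) := le_inf ha hb
      let s : Γ(Proj 𝒜, Proj.basicOpen 𝒜 (a : A) ⊓ Proj.basicOpen 𝒜 (b : A)) :=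
        (Proj 𝒜).presheaf.map (homOfLE hle).op (Proj.awayToSection 𝒜 c (Away.mk 𝒜 hc k x hx))
      have h1 := congrArg (KFlatLib.puSec p) (relation 𝒜 a.2 b.2 hc hx hle hA)
      rw [TwistLib.puSec_smul, TwistLib.puSec_res, TwistLib.puSec_res] at h1
      have h2 := congrArg (res (KFlatLib.pb p O) hV) h1
      rw [res_smul, res_res, res_res] at h2
      have hr' := (he a V ha).1 (hr.trans h2.symm)
      have hφx : φ x ∈ ℬ (k • 1) := φ.2 hx
      have hWV : (PCone.dom φ).ι ''ᵁ V ≤ Proj.basicOpen ℬ (φ (a : A)) ⊓ Proj.basicOpen ℬ (φ (b : A)) :=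
        le_inf (((PCone.dom φ).ι.image_mono ha).trans (himg a)) (((PCone.dom φ).ι.image_mono hb).trans (himg b))
      have h3 := congrArg (res O' hWV) (relation ℬ (hφ1 a) (hφ1 b) hφc hφx hle' hB)
      rw [res_smul, res_res, res_res] at h3
      have hVc : V ≤ (PCone.dom φ).ι ⁻¹ᵁ Proj.basicOpen ℬ (φ c) := by
        rw [← preimage_basicOpen φ p hp hc Nat.one_pos]
        exact hV.trans (p.preimage_mono hle)
      have key := congr($(appLE_awayToSection φ p hp hc Nat.one_pos) (Away.mk 𝒜 hc k x hx))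
      have key' := congrArg ((PCone.dom φ : Scheme.{u}).presheaf.map (homOfLE hVc).op) key
      rw [hr']
      have hcomb : ∀ y : Γ(Proj 𝒜, Proj.basicOpen 𝒜 c),
          (PCone.dom φ : Scheme.{u}).presheaf.map (homOfLE hV).op (p.app _ ((Proj 𝒜).presheaf.map (homOfLE hle).op y)) =
            (PCone.dom φ : Scheme.{u}).presheaf.map (homOfLE hVc).op
              (p.appLE (Proj.basicOpen 𝒜 c) _ (preimage_basicOpen φ p hp hc Nat.one_pos).ge y) := fun y => by
        rw [← CommRingCat.comp_apply, ← CommRingCat.comp_apply, ← CommRingCat.comp_apply, Scheme.Hom.app_eq_appLE,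
          Scheme.Hom.appLE_map, Scheme.Hom.map_appLE, Scheme.Hom.appLE_map]
      have h4 : (show Γ(Proj ℬ, (PCone.dom φ).ι ''ᵁ V) from
          ((PCone.dom φ).ι.appIso V).inv ((PCone.dom φ : Scheme.{u}).presheaf.map (homOfLE hV).op
            (p.app _ s))) =
          (Proj ℬ).presheaf.map (homOfLE hWV).op ((Proj ℬ).presheaf.map (homOfLE hle').op
            (Proj.awayToSection ℬ (φ c) (Away.mk ℬ hφc k (φ x) hφx))) := by
        refine (congrArg ((PCone.dom φ).ι.appIso V).inv ((hcomb _).trans key')).trans ?_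
        simp only [Scheme.Opens.ι_appIso, Iso.refl_inv, Scheme.Opens.ι_app, CommRingCat.id_apply]
        show (Proj ℬ).presheaf.map (homOfLE ((PCone.dom φ).ι.image_mono hVc)).op
            ((Proj ℬ).presheaf.map (homOfLE ((PCone.dom φ).ι.image_preimage_eq_opensRange_inf _ ▸
              (inf_le_right : (PCone.dom φ).ι.opensRange ⊓ Proj.basicOpen ℬ (φ c) ≤ Proj.basicOpen ℬ (φ c)))).op
              (Proj.awayToSection ℬ (φ c) (Away.map φ c (Away.mk 𝒜 hc k x hx)))) = _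
        rw [Away.map_mk]
        exact map_map_eq _ _ _ _ _
      refine Eq.trans ?_ (h3.trans (res_res O' (himg b) ((PCone.dom φ).ι.image_mono hb) _).symm)
      exact congrArg₂ (fun (t : Γ(Proj ℬ, (PCone.dom φ).ι ''ᵁ V)) (y : Γ(O', (PCone.dom φ).ι ''ᵁ V)) => t • y) h4
        (res_res O' (himg a) ((PCone.dom φ).ι.image_mono ha) _))
  haveI : IsIso β := by
    refine TwistLib.isIso_of_gen β fun x => ?_
    obtain ⟨a, hx⟩ := hcov x
    exact ⟨D a, hx, e a, (he a).genAt hx, (hβ a).symm ▸ (hg a).genAt hx⟩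
  exact ⟨asIso β⟩

end ConeTwistLib
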